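import Cfsg.Agent.Lib.S2506.Defs

set_option autoImplicit false
set_option linter.unusedSectionVars false
open Equiv Equiv.Perm

namespace Cfsg.Agent.S2506L

variable {α : Type*} [Fintype α] [DecidableEq α]

theorem mem_orb {B : Subgroup (Perm α)} {x y : α} : y ∈ orb B x ↔ ∃ g ∈ B, g x = y := by
  unfold orb
  simp [Finset.mem_filter]

theorem self_mem_orb (B : Subgroup (Perm α)) (x : α) : x ∈ orb B x :=
  mem_orb.2 ⟨1, B.one_mem, rfl⟩

theorem mem_stab {B : Subgroup (Perm α)} {x : α} {g : Perm α} :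
    g ∈ stab B x ↔ g ∈ B ∧ g x = x := by
  simp [stab, Subgroup.mem_inf, MulAction.mem_stabilizer_iff]

theorem apply_mem_orb_iff {B : Subgroup (Perm α)} {x : α} {g : Perm α} (hg : g ∈ B) (y : α) :
    g y ∈ orb B x ↔ y ∈ orb B x := by
  constructor
  · intro h
    obtain ⟨a, ha, hax⟩ := mem_orb.1 h
    exact mem_orb.2 ⟨g⁻¹ * a, B.mul_mem (B.inv_mem hg) ha, by simp [hax]⟩
  · intro h
    obtain ⟨a, ha, hax⟩ := mem_orb.1 h
    exact mem_orb.2 ⟨g * a, B.mul_mem hg ha, by simp [hax]⟩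

theorem Basic_orbit_eq (B : Subgroup (Perm α)) (x : α) :
    MulAction.orbit B x = (↑(orb B x) : Set α) := by
  ext y
  simp only [MulAction.mem_orbit_iff, Finset.mem_coe, mem_orb]
  constructor
  · rintro ⟨g, hg⟩
    exact ⟨g.1, g.2, hg⟩
  · rintro ⟨g, hg, hgx⟩
    exact ⟨⟨g, hg⟩, hgx⟩

theorem Basic_stab_eq (B : Subgroup (Perm α)) (x : α) :
    stab B x = (MulAction.stabilizer B x).map B.subtype := by
  ext g
  simp only [mem_stab, Subgroup.mem_map, MulAction.mem_stabilizer_iff, Subgroup.coe_subtype]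
  constructor
  · rintro ⟨hg, hgx⟩
    exact ⟨⟨g, hg⟩, hgx, rfl⟩
  · rintro ⟨b, hb, rfl⟩
    exact ⟨b.2, hb⟩

theorem card_eq_orb_mul_stab (B : Subgroup (Perm α)) (x : α) :
    Nat.card B = (orb B x).card * Nat.card (stab B x) := by
  have h1 : Nat.card B = Nat.card (B ⧸ MulAction.stabilizer B x) *
      Nat.card (MulAction.stabilizer B x) := Subgroup.card_eq_card_quotient_mul_card_subgroup _
  have h2 : Nat.card (B ⧸ MulAction.stabilizer B x) = (orb B x).card := by
    rw [← Nat.card_congr (MulAction.orbitEquivQuotientStabilizer B x), Basic_orbit_eq,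
      Nat.card_coe_set_eq, Set.ncard_coe_finset]
  have h3 : Nat.card (MulAction.stabilizer B x) = Nat.card (stab B x) := by
    rw [Basic_stab_eq]
    exact Nat.card_congr
      (Subgroup.equivMapOfInjective _ _ B.subtype_injective).toEquiv
  rw [h1, h2, h3]

theorem stab_fixes_orb {B : Subgroup (Perm α)} (hc : Comm B) (x : α) :
    ∀ k ∈ stab B x, ∀ y ∈ orb B x, k y = y := by
  intro k hk y hy
  obtain ⟨hkB, hkx⟩ := mem_stab.1 hk
  obtain ⟨g, hg, rfl⟩ := mem_orb.1 hy
  have := hc k hkB g hg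
  calc k (g x) = (k * g) x := rfl
    _ = (g * k) x := by rw [this]
    _ = g x := by simp [hkx]

theorem orb_subset {B : Subgroup (Perm α)} {s : Finset α} (hs : SuppLE B s) {x : α}
    (hx : x ∈ s) : orb B x ⊆ s := by
  intro y hy
  obtain ⟨g, hg, rfl⟩ := mem_orb.1 hy
  by_cases h : g x = x
  · rw [h]; exact hx
  · apply hs g hg
    intro h2
    exact h (g.injective h2)

theorem adm_stab {B : Subgroup (Perm α)} {s : Finset α} (h : Adm B s) (x : α) :
    Adm (stab B x) (s \ orb B x) := by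
  refine ⟨?_, ?_, ?_⟩
  · intro a ha b hb
    exact h.comm a (mem_stab.1 ha).1 b (mem_stab.1 hb).1
  · intro g hg
    exact h.even (mem_stab.1 hg).1
  · intro g hg y hy
    rw [Finset.mem_sdiff]
    refine ⟨h.supp g (mem_stab.1 hg).1 y hy, ?_⟩
    intro hyo
    exact hy (stab_fixes_orb h.comm x g hg y hyo)

end Cfsg.Agent.S2506L
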