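import Cfsg.Agent.Lib.S2506.Defs

/-! S2506 piece N (helper8): arithmetic of `fS`, `fA`. -/

set_option autoImplicit false

namespace Cfsg.Agent.S2506L

theorem N_fS_rec (k : ℕ) (hk : 2 ≤ k) : fS (k + 3) = 3 * fS k := by
  obtain ⟨n, rfl⟩ := Nat.exists_eq_add_of_le hk
  have h1 : 2 + n + 3 = n + 5 := by omega
  have h2 : 2 + n = n + 2 := by omega
  rw [h1, h2]
  rfl

theorem N_fA_rec (k : ℕ) (hk : 6 ≤ k) : fA (k + 3) = 3 * fA k := by
  obtain ⟨n, rfl⟩ := Nat.exists_eq_add_of_le hk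
  have h1 : 6 + n + 3 = n + 9 := by omega
  have h2 : 6 + n = n + 6 := by omega
  rw [h1, h2]
  rfl

theorem N_ind5 (P : ℕ → Prop) (hb : ∀ k < 5, P k) (hs : ∀ k, 2 ≤ k → P k → P (k + 3)) :
    ∀ n, P n := by
  intro n
  induction n using Nat.strong_induction_on with
  | _ n ih =>
    by_cases h : n < 5
    · exact hb n h
    · have h1 : n = (n - 3) + 3 := by omega
      rw [h1]
      exact hs (n - 3) (by omega) (ih (n - 3) (by omega))

theorem N_ind9 (P : ℕ → Prop) (hb : ∀ k < 9, P k) (hs : ∀ k, 6 ≤ k → P k → P (k + 3)) :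
    ∀ n, P n := by
  intro n
  induction n using Nat.strong_induction_on with
  | _ n ih =>
    by_cases h : n < 9
    · exact hb n h
    · have h1 : n = (n - 3) + 3 := by omega
      rw [h1]
      exact hs (n - 3) (by omega) (ih (n - 3) (by omega))

theorem fA_pos (n : ℕ) : 0 < fA n := by
  refine N_ind9 (fun n => 0 < fA n) ?_ ?_ n
  · intro k hk
    interval_cases k <;> decide
  · intro k hk h
    show 0 < fA (k + 3)
    rw [N_fA_rec k hk]
    omega

theorem N_fS_pos (n : ℕ) : 0 < fS n := by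
  refine N_ind5 (fun n => 0 < fS n) ?_ ?_ n
  · intro k hk
    interval_cases k <;> decide
  · intro k hk h
    show 0 < fS (k + 3)
    rw [N_fS_rec k hk]
    omega

theorem N_fS_three (k : ℕ) : 3 * fS k ≤ fS (k + 3) := by
  by_cases h : 2 ≤ k
  · rw [N_fS_rec k h]
  · interval_cases k <;> decide

theorem N_fA_three (k : ℕ) : 3 * fA k ≤ fA (k + 3) := by
  by_cases h : 6 ≤ k
  · rw [N_fA_rec k h]
  · interval_cases k <;> decide

/-- base multipliers for `fS` -/
theorem N_fS_base (c : ℕ) (hc : c = 1 ∨ c = 2 ∨ c = 3 ∨ c = 4) (j : ℕ) :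
    c * fS j ≤ fS (c + j) := by
  refine N_ind5 (fun j => c * fS j ≤ fS (c + j)) ?_ ?_ j
  · intro k hk
    rcases hc with rfl | rfl | rfl | rfl <;> interval_cases k <;> decide
  · intro k hk h
    show c * fS (k + 3) ≤ fS (c + (k + 3))
    have e1 := N_fS_rec k hk
    have e2 : fS (c + (k + 3)) = 3 * fS (c + k) := by
      rw [← add_assoc]
      exact N_fS_rec (c + k) (by omega)
    rw [e1, e2]
    have : c * (3 * fS k) = 3 * (c * fS k) := by ring
    rw [this]
    exact Nat.mul_le_mul_left 3 h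

theorem N_fS_add (m : ℕ) (hm : 1 ≤ m) (j : ℕ) : m * fS j ≤ fS (m + j) := by
  induction m using Nat.strong_induction_on with
  | _ m ih =>
    by_cases h : m ≤ 4
    · exact N_fS_base m (by omega) j
    · have h1 : m = (m - 3) + 3 := by omega
      have ih' := ih (m - 3) (by omega) (by omega)
      have h3 := N_fS_three (m - 3 + j)
      have h4 : m - 3 + j + 3 = m + j := by omega
      rw [h4] at h3
      have h5 : m * fS j ≤ 3 * ((m - 3) * fS j) := by
        have : m ≤ 3 * (m - 3) := by omega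
        calc m * fS j ≤ (3 * (m - 3)) * fS j := Nat.mul_le_mul_right _ this
          _ = 3 * ((m - 3) * fS j) := by ring
      calc m * fS j ≤ 3 * ((m - 3) * fS j) := h5
        _ ≤ 3 * fS (m - 3 + j) := Nat.mul_le_mul_left 3 ih'
        _ ≤ fS (m + j) := h3

theorem fS_mul_le (m n : ℕ) (h1 : 1 ≤ m) (hmn : m ≤ n) : m * fS (n - m) ≤ fS n := by
  obtain ⟨j, rfl⟩ := Nat.exists_eq_add_of_le hmn
  rw [Nat.add_sub_cancel_left]
  exact N_fS_add m h1 j

/-- base multipliers for `fA` -/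
theorem N_fA_base (c : ℕ) (hc : c = 1 ∨ c = 3 ∨ c = 4 ∨ c = 5) (j : ℕ) :
    c * fA j ≤ fA (c + j) := by
  refine N_ind9 (fun j => c * fA j ≤ fA (c + j)) ?_ ?_ j
  · intro k hk
    rcases hc with rfl | rfl | rfl | rfl <;> interval_cases k <;> decide
  · intro k hk h
    show c * fA (k + 3) ≤ fA (c + (k + 3))
    have e1 := N_fA_rec k hk
    have e2 : fA (c + (k + 3)) = 3 * fA (c + k) := by
      rw [← add_assoc]
      exact N_fA_rec (c + k) (by omega)
    rw [e1, e2]
    have : c * (3 * fA k) = 3 * (c * fA k) := by ring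
    rw [this]
    exact Nat.mul_le_mul_left 3 h

theorem N_fA_add (m : ℕ) (hm : 1 ≤ m) (h2 : m ≠ 2) (j : ℕ) : m * fA j ≤ fA (m + j) := by
  induction m using Nat.strong_induction_on with
  | _ m ih =>
    by_cases h : m ≤ 5
    · exact N_fA_base m (by omega) j
    · have ih' := ih (m - 3) (by omega) (by omega) (by omega)
      have h3 := N_fA_three (m - 3 + j)
      have h4 : m - 3 + j + 3 = m + j := by omega
      rw [h4] at h3
      have h5 : m * fA j ≤ 3 * ((m - 3) * fA j) := by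
        have : m ≤ 3 * (m - 3) := by omega
        calc m * fA j ≤ (3 * (m - 3)) * fA j := Nat.mul_le_mul_right _ this
          _ = 3 * ((m - 3) * fA j) := by ring
      calc m * fA j ≤ 3 * ((m - 3) * fA j) := h5
        _ ≤ 3 * fA (m - 3 + j) := Nat.mul_le_mul_left 3 ih'
        _ ≤ fA (m + j) := h3

theorem fA_mul_le (m n : ℕ) (h1 : 1 ≤ m) (h2 : m ≠ 2) (hmn : m ≤ n) :
    m * fA (n - m) ≤ fA n := by
  obtain ⟨j, rfl⟩ := Nat.exists_eq_add_of_le hmn
  rw [Nat.add_sub_cancel_left]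
  exact N_fA_add m h1 h2 j

/-- strict version for `m ≥ 6` -/
theorem N_fA_add_lt (m : ℕ) (hm : 6 ≤ m) (j : ℕ) : m * fA j < fA (m + j) := by
  have ih' := N_fA_add (m - 3) (by omega) (by omega) j
  have h3 := N_fA_three (m - 3 + j)
  have h4 : m - 3 + j + 3 = m + j := by omega
  rw [h4] at h3
  have hp := fA_pos j
  have h5 : m * fA j < 3 * ((m - 3) * fA j) := by
    have : m < 3 * (m - 3) := by omega
    calc m * fA j < (3 * (m - 3)) * fA j := Nat.mul_lt_mul_of_pos_right this hp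
      _ = 3 * ((m - 3) * fA j) := by ring
  calc m * fA j < 3 * ((m - 3) * fA j) := h5
    _ ≤ 3 * fA (m - 3 + j) := Nat.mul_le_mul_left 3 ih'
    _ ≤ fA (m + j) := h3

theorem N_fA_five_lt (j : ℕ) (hj : 1 ≤ j) : 5 * fA j < fA (5 + j) := by
  revert hj
  refine N_ind9 (fun j => 1 ≤ j → 5 * fA j < fA (5 + j)) ?_ ?_ j
  · intro k hk
    interval_cases k <;> decide
  · intro k hk h _
    have h' := h (by omega)
    show 5 * fA (k + 3) < fA (5 + (k + 3))
    have e1 := N_fA_rec k hk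
    have e2 : fA (5 + (k + 3)) = 3 * fA (5 + k) := by
      rw [← add_assoc]
      exact N_fA_rec (5 + k) (by omega)
    rw [e1, e2]
    omega

theorem N_fA_one_lt (j : ℕ) (hj : 2 ≤ j) : fA j < fA (1 + j) := by
  revert hj
  refine N_ind9 (fun j => 2 ≤ j → fA j < fA (1 + j)) ?_ ?_ j
  · intro k hk
    interval_cases k <;> decide
  · intro k hk h _
    have h' := h (by omega)
    show fA (k + 3) < fA (1 + (k + 3))
    have e1 := N_fA_rec k hk
    have e2 : fA (1 + (k + 3)) = 3 * fA (1 + k) := by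
      rw [← add_assoc]
      exact N_fA_rec (1 + k) (by omega)
    rw [e1, e2]
    omega

theorem N_fS_le_fA_add_two (j : ℕ) : fS j ≤ fA (j + 2) ∧ (1 ≤ j → fS j < fA (j + 2)) := by
  refine N_ind9 (fun j => fS j ≤ fA (j + 2) ∧ (1 ≤ j → fS j < fA (j + 2))) ?_ ?_ j
  · intro k hk
    interval_cases k <;> decide
  · intro k hk h
    show fS (k + 3) ≤ fA (k + 3 + 2) ∧ (1 ≤ k + 3 → fS (k + 3) < fA (k + 3 + 2))
    have e1 := N_fS_rec k (by omega)
    have e2 : fA (k + 3 + 2) = 3 * fA (k + 2) := by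
      have : k + 3 + 2 = (k + 2) + 3 := by omega
      rw [this]
      exact N_fA_rec (k + 2) (by omega)
    rw [e1, e2]
    have h1 := h.1
    have h2 := h.2 (by omega)
    constructor
    · omega
    · intro _
      omega

theorem fS_sub_two_le (n : ℕ) (h : 2 ≤ n) : fS (n - 2) ≤ fA n := by
  have := (N_fS_le_fA_add_two (n - 2)).1
  rwa [Nat.sub_add_cancel h] at this

theorem fS_sub_two_lt (n : ℕ) (h : 3 ≤ n) : fS (n - 2) < fA n := by
  have := (N_fS_le_fA_add_two (n - 2)).2 (by omega)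
  rwa [Nat.sub_add_cancel (by omega)] at this

theorem fS_lt_two_fA (j : ℕ) (h : j ≠ 2) : fS j < 2 * fA j := by
  revert h
  refine N_ind9 (fun j => j ≠ 2 → fS j < 2 * fA j) ?_ ?_ j
  · intro k hk
    interval_cases k <;> decide
  · intro k hk h _
    have h' := h (by omega)
    show fS (k + 3) < 2 * fA (k + 3)
    rw [N_fS_rec k (by omega), N_fA_rec k hk]
    omega

theorem fA_eq_cases (m n : ℕ) (hn : 3 ≤ n) (h5 : n ≠ 5) (h1 : 1 ≤ m) (h2 : m ≠ 2) (hmn : m ≤ n)
    (h : m * fA (n - m) = fA n) : (m = 3 ∨ m = 4) ∧ n - m ≠ 2 ∧ n - m ≠ 5 := by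
  obtain ⟨j, rfl⟩ := Nat.exists_eq_add_of_le hmn
  rw [Nat.add_sub_cancel_left] at h ⊢
  by_cases h6 : 6 ≤ m
  · exact absurd h (Nat.ne_of_lt (N_fA_add_lt m h6 j))
  · have hm : m = 1 ∨ m = 3 ∨ m = 4 ∨ m = 5 := by omega
    rcases hm with rfl | rfl | rfl | rfl
    · exfalso
      have := N_fA_one_lt j (by omega)
      omega
    · refine ⟨Or.inl rfl, ?_, ?_⟩
      · rintro rfl
        revert h
        decide
      · rintro rfl
        revert h
        decide
    · refine ⟨Or.inr rfl, ?_, ?_⟩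
      · rintro rfl
        revert h
        decide
      · rintro rfl
        revert h
        decide
    · exfalso
      have := N_fA_five_lt j (by omega)
      omega

end Cfsg.Agent.S2506L
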