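import Cfsg.Agent.Lib.S2506.Basic
import Cfsg.Agent.Lib.S2506.N

set_option autoImplicit false
set_option linter.unusedSectionVars false
open Equiv Equiv.Perm

namespace Cfsg.Agent.S2506L


variable {α : Type*} [Fintype α] [DecidableEq α]

/-- a subgroup moving no point of the empty set is trivial -/
theorem Bd_card_of_empty (B : Subgroup (Perm α)) (hs : SuppLE B ∅) : Nat.card B = 1 := by
  have : B = ⊥ := by
    rw [Subgroup.eq_bot_iff_forall]
    intro g hg
    ext z
    by_contra hz
    exact absurd (hs g hg z hz) (Finset.notMem_empty z)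
  rw [this]
  exact Subgroup.card_bot

theorem Bd_fS_pos (n : ℕ) : 1 ≤ fS n := by
  rcases Nat.eq_zero_or_pos n with h | h
  · subst h; exact le_of_eq rfl
  · have := fS_mul_le n n h le_rfl
    rw [Nat.sub_self] at this
    have h0 : fS 0 = 1 := rfl
    rw [h0] at this
    omega

/-- the stabilizer of `x` in an abelian group is supported off the orbit of `x` -/
theorem Bd_supp_stab {B : Subgroup (Perm α)} {s : Finset α} (hc : Comm B) (hs : SuppLE B s)
    (x : α) : SuppLE (stab B x) (s \ orb B x) := by
  intro g hg y hy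
  rw [Finset.mem_sdiff]
  refine ⟨hs g (mem_stab.1 hg).1 y hy, ?_⟩
  intro hyo
  exact hy (stab_fixes_orb hc x g hg y hyo)

theorem Bd_comm_stab {B : Subgroup (Perm α)} (hc : Comm B) (x : α) : Comm (stab B x) := by
  intro a ha b hb
  exact hc a (mem_stab.1 ha).1 b (mem_stab.1 hb).1

theorem Bd_card_sdiff_orb {B : Subgroup (Perm α)} {s : Finset α} (hs : SuppLE B s) {x : α}
    (hx : x ∈ s) : (s \ orb B x).card = s.card - (orb B x).card :=
  Finset.card_sdiff_of_subset (orb_subset hs hx)

theorem Bd_orb_card_pos (B : Subgroup (Perm α)) (x : α) : 1 ≤ (orb B x).card :=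
  Finset.card_pos.2 ⟨x, self_mem_orb B x⟩

theorem Bd_orb_card_le {B : Subgroup (Perm α)} {s : Finset α} (hs : SuppLE B s) {x : α}
    (hx : x ∈ s) : (orb B x).card ≤ s.card :=
  Finset.card_le_card (orb_subset hs hx)

theorem Bd_card_le_fS_aux (n : ℕ) : ∀ (B : Subgroup (Perm α)) (s : Finset α), s.card = n →
    Comm B → SuppLE B s → Nat.card B ≤ fS s.card := by
  induction n using Nat.strong_induction_on with
  | _ n ih =>
    intro B s hn hc hs
    rcases Finset.eq_empty_or_nonempty s with he | ⟨x, hx⟩
    · subst he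
      rw [Bd_card_of_empty B hs]
      exact Bd_fS_pos _
    · have hm1 := Bd_orb_card_pos B x
      have hmle := Bd_orb_card_le hs hx
      have hsd := Bd_card_sdiff_orb hs hx
      have hK := ih (s \ orb B x).card (by rw [hsd]; omega) (stab B x) (s \ orb B x) rfl
        (Bd_comm_stab hc x) (Bd_supp_stab hc hs x)
      rw [card_eq_orb_mul_stab B x]
      calc (orb B x).card * Nat.card (stab B x)
          ≤ (orb B x).card * fS (s \ orb B x).card := Nat.mul_le_mul_left _ hK
        _ = (orb B x).card * fS (s.card - (orb B x).card) := by rw [hsd]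
        _ ≤ fS s.card := fS_mul_le _ _ hm1 hmle

theorem card_le_fS (B : Subgroup (Perm α)) (s : Finset α) (hc : Comm B) (hs : SuppLE B s) :
    Nat.card B ≤ fS s.card :=
  Bd_card_le_fS_aux s.card B s rfl hc hs

/-- the orbit of size two: `orb B x = {x, y}` -/
theorem Bd_orb_two {B : Subgroup (Perm α)} {x : α} (h2 : (orb B x).card = 2) :
    ∃ y, y ≠ x ∧ orb B x = {x, y} := by
  obtain ⟨a, b, hab, hO⟩ := Finset.card_eq_two.1 h2
  have hx := self_mem_orb B x
  rw [hO] at hx ⊢
  rcases Finset.mem_insert.1 hx with h | h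
  · subst h
    exact ⟨b, fun h => hab h.symm, rfl⟩
  · rw [Finset.mem_singleton] at h
    subst h
    exact ⟨a, hab, Finset.pair_comm a x⟩

theorem Bd_closure_comm (S : Set (Perm α)) (hS : ∀ a ∈ S, ∀ b ∈ S, a * b = b * a) :
    Comm (Subgroup.closure S) := by
  intro a ha b hb
  have := (Subgroup.isMulCommutative_closure hS).is_comm.comm ⟨a, ha⟩ ⟨b, hb⟩
  exact congrArg Subtype.val this

theorem Bd_closure_supp (S : Set (Perm α)) (t : Finset α)
    (hS : ∀ a ∈ S, ∀ z, z ∉ t → a z = z) : SuppLE (Subgroup.closure S) t := by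
  have key : ∀ g ∈ Subgroup.closure S, ∀ z, z ∉ t → g z = z := by
    intro g hg
    induction hg using Subgroup.closure_induction with
    | mem a ha => exact hS a ha
    | one => intro z _; rfl
    | mul a b _ _ iha ihb =>
      intro z hz
      rw [Perm.mul_apply, ihb z hz, iha z hz]
    | inv a _ iha =>
      intro z hz
      rw [Perm.inv_eq_iff_eq]
      exact (iha z hz).symm
  intro g hg z hz
  by_contra hzt
  exact hz (key g hg z hzt)

theorem card_le_fS_of_orb_two (B : Subgroup (Perm α)) (s : Finset α) (h : Adm B s) (x : α)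
    (hx : x ∈ s) (h2 : (orb B x).card = 2) : Nat.card B ≤ fS (s.card - 2) := by
  obtain ⟨y, hyx, hO⟩ := Bd_orb_two h2
  have hyO : y ∈ orb B x := by rw [hO]; simp
  obtain ⟨b, hbB, hbx⟩ := mem_orb.1 hyO
  -- `b y = x`
  have hby : b y = x := by
    have h1 : b y ∈ orb B x := (apply_mem_orb_iff hbB y).2 hyO
    rw [hO] at h1
    rcases Finset.mem_insert.1 h1 with h1 | h1
    · exact h1
    · rw [Finset.mem_singleton] at h1
      exfalso
      have : b y = b x := by rw [h1, hbx]
      exact hyx (b.injective this)
  set b' : Perm α := b * swap x y with hb'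
  have hb'x : b' x = x := by rw [hb', Perm.mul_apply, swap_apply_left, hby]
  have hb'y : b' y = y := by rw [hb', Perm.mul_apply, swap_apply_right, hbx]
  have hsb' : sign b' = -1 := by
    rw [hb', map_mul, sign_swap hyx.symm]
    have : sign b = 1 := by
      have := h.even hbB
      rwa [mem_alternatingGroup] at this
    rw [this, one_mul]
  set K := stab B x with hK
  have hKfix : ∀ k ∈ K, k x = x ∧ k y = y := by
    intro k hk
    exact ⟨stab_fixes_orb h.comm x k hk x (self_mem_orb B x),
      stab_fixes_orb h.comm x k hk y hyO⟩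
  have hKsw : ∀ k ∈ K, k * swap x y = swap x y * k := by
    intro k hk
    obtain ⟨h1, h2⟩ := hKfix k hk
    have := Equiv.swap_apply_apply k x y
    rw [h1, h2] at this
    calc k * swap x y = k * swap x y * k⁻¹ * k := by group
      _ = swap x y * k := by rw [← this]
  have hKb' : ∀ k ∈ K, k * b' = b' * k := by
    intro k hk
    have h1 := h.comm k (mem_stab.1 hk).1 b hbB
    rw [hb', ← mul_assoc, h1, mul_assoc, hKsw k hk, mul_assoc]
  set S : Set (Perm α) := (K : Set (Perm α)) ∪ {b'} with hS
  set C := Subgroup.closure S with hC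
  have hScomm : ∀ a ∈ S, ∀ c ∈ S, a * c = c * a := by
    intro a ha c hc
    rcases ha with ha | ha <;> rcases hc with hc | hc
    · exact h.comm a (mem_stab.1 ha).1 c (mem_stab.1 hc).1
    · rw [Set.mem_singleton_iff] at hc; subst hc; exact hKb' a ha
    · rw [Set.mem_singleton_iff] at ha; subst ha; exact (hKb' c hc).symm
    · rw [Set.mem_singleton_iff] at ha hc; rw [ha, hc]
  have hCcomm : Comm C := Bd_closure_comm S hScomm
  have hKsupp := Bd_supp_stab h.comm h.supp x
  have hb'B : ∀ z, z ∉ s → b' z = z := by
    intro z hz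
    have hzx : z ≠ x := fun e => hz (e ▸ hx)
    have hzy : z ≠ y := fun e => hz (e ▸ orb_subset h.supp hx hyO)
    rw [hb', Perm.mul_apply, swap_apply_of_ne_of_ne hzx hzy]
    by_contra hbz
    exact hz (h.supp b hbB z hbz)
  have hCsupp : SuppLE C (s \ orb B x) := by
    apply Bd_closure_supp
    intro a ha z hz
    rcases ha with ha | ha
    · by_contra haz
      exact hz (hKsupp a ha z haz)
    · rw [Set.mem_singleton_iff] at ha
      subst ha
      by_cases hzO : z ∈ orb B x
      · rw [hO] at hzO
        rcases Finset.mem_insert.1 hzO with e | e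
        · rw [e]; exact hb'x
        · rw [Finset.mem_singleton] at e; rw [e]; exact hb'y
      · apply hb'B
        intro hzs
        exact hz (Finset.mem_sdiff.2 ⟨hzs, hzO⟩)
  have hKC : K ≤ C := by
    intro k hk
    exact Subgroup.subset_closure (Or.inl hk)
  have hb'C : b' ∈ C := Subgroup.subset_closure (Or.inr rfl)
  have hb'K : b' ∉ K := by
    intro hmem
    have := h.even (mem_stab.1 hmem).1
    rw [mem_alternatingGroup, hsb'] at this
    exact absurd this (by decide)
  have hdvd : Nat.card K ∣ Nat.card C := Subgroup.card_dvd_of_le hKC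
  have hCpos : 0 < Nat.card C := Nat.card_pos
  have hKpos : 0 < Nat.card K := Nat.card_pos
  have hne : Nat.card C ≠ Nat.card K := by
    intro e
    have := Subgroup.eq_of_le_of_card_ge hKC (le_of_eq e)
    exact hb'K (this ▸ hb'C)
  have h2K : 2 * Nat.card K ≤ Nat.card C := by
    obtain ⟨j, hj⟩ := hdvd
    rcases j with _ | _ | j
    · rw [hj] at hCpos; simp at hCpos
    · rw [hj] at hne; simp at hne
    · rw [hj]; nlinarith
  have hCle := card_le_fS C (s \ orb B x) hCcomm hCsupp
  rw [Bd_card_sdiff_orb h.supp hx, h2] at hCle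
  rw [card_eq_orb_mul_stab B x, h2]
  exact le_trans h2K hCle

theorem Bd_card_le_fA_aux (n : ℕ) : ∀ (B : Subgroup (Perm α)) (s : Finset α), s.card = n →
    Adm B s → Nat.card B ≤ fA s.card := by
  induction n using Nat.strong_induction_on with
  | _ n ih =>
    intro B s hn h
    rcases Finset.eq_empty_or_nonempty s with he | ⟨x, hx⟩
    · subst he
      rw [Bd_card_of_empty B h.supp]
      exact fA_pos _
    · have hm1 := Bd_orb_card_pos B x
      have hmle := Bd_orb_card_le h.supp hx
      have hsd := Bd_card_sdiff_orb h.supp hx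
      by_cases h2 : (orb B x).card = 2
      · have h1 := card_le_fS_of_orb_two B s h x hx h2
        exact le_trans h1 (fS_sub_two_le _ (by omega))
      · have hK := ih (s \ orb B x).card (by rw [hsd]; omega) (stab B x) (s \ orb B x) rfl
          (adm_stab h x)
        rw [card_eq_orb_mul_stab B x]
        calc (orb B x).card * Nat.card (stab B x)
            ≤ (orb B x).card * fA (s \ orb B x).card := Nat.mul_le_mul_left _ hK
          _ = (orb B x).card * fA (s.card - (orb B x).card) := by rw [hsd]
          _ ≤ fA s.card := fA_mul_le _ _ hm1 h2 hmle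

theorem card_le_fA (B : Subgroup (Perm α)) (s : Finset α) (h : Adm B s) :
    Nat.card B ≤ fA s.card :=
  Bd_card_le_fA_aux s.card B s rfl h

end Cfsg.Agent.S2506L
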