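import Cfsg.Agent.Lib.S2506.Defs

set_option autoImplicit false
set_option linter.unusedSectionVars false
open Equiv Equiv.Perm

namespace Cfsg.Agent.S2506L

variable {α : Type*} [Fintype α] [DecidableEq α]

theorem E1_image_swap (P : Finset α) (a b : α) (ha : a ∈ P) (hb : b ∉ P) :
    P.image (⇑(swap a b)) = insert b (P.erase a) := by
  have hab : a ≠ b := fun h => hb (h ▸ ha)
  ext w
  have h1 : w ∈ P.image (⇑(swap a b)) ↔ swap a b w ∈ P := by
    rw [Finset.mem_image]
    constructor
    · rintro ⟨v, hv, rfl⟩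
      rw [swap_apply_self]; exact hv
    · intro h; exact ⟨swap a b w, h, swap_apply_self a b w⟩
  rw [h1, Finset.mem_insert, Finset.mem_erase]
  by_cases hwa : w = a
  · subst hwa
    rw [swap_apply_left]
    constructor
    · intro h; exact absurd h hb
    · rintro (h | h)
      · exact absurd h hab
      · exact absurd rfl h.1
  by_cases hwb : w = b
  · subst hwb
    rw [swap_apply_right]
    exact ⟨fun _ => Or.inl rfl, fun _ => ha⟩
  rw [swap_apply_of_ne_of_ne hwa hwb]
  constructor
  · intro h; exact Or.inr ⟨hwa, h⟩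
  · rintro (h | h)
    · exact absurd h hwb
    · exact h.2

theorem exists_perm_image_eq (P Q Z : Finset α) (hc : P.card = Q.card) (hP : Disjoint Z P)
    (hQ : Disjoint Z Q) : ∃ τ : Perm α, P.image τ = Q ∧ ∀ z ∈ Z, τ z = z := by
  induction hn : (P \ Q).card generalizing P with
  | zero =>
    have hsub : P ⊆ Q := by
      rw [← Finset.sdiff_eq_empty_iff_subset]
      exact Finset.card_eq_zero.1 hn
    have : P = Q := Finset.eq_of_subset_of_card_le hsub (by rw [hc])
    exact ⟨1, by simp [this], fun z _ => rfl⟩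
  | succ n ih =>
    have hne : (P \ Q).Nonempty := by
      rw [← Finset.card_pos]; omega
    obtain ⟨a, ha⟩ := hne
    have hne' : (Q \ P).Nonempty := by
      rw [← Finset.card_pos, ← Finset.card_sdiff_comm hc]; omega
    obtain ⟨b, hb⟩ := hne'
    rw [Finset.mem_sdiff] at ha hb
    have hab : a ≠ b := fun h => hb.2 (h ▸ ha.1)
    have hbE : b ∉ P.erase a := fun h => hb.2 (Finset.mem_of_mem_erase h)
    have hc' : (insert b (P.erase a)).card = Q.card := by
      rw [Finset.card_insert_of_notMem hbE, Finset.card_erase_of_mem ha.1, ← hc]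
      have : 0 < P.card := Finset.card_pos.2 ⟨a, ha.1⟩
      omega
    have hP' : Disjoint Z (insert b (P.erase a)) := by
      rw [Finset.disjoint_insert_right]
      refine ⟨fun h => ?_, hP.mono_right (Finset.erase_subset _ _)⟩
      exact (Finset.disjoint_left.1 hQ h) hb.1
    have hsd : insert b (P.erase a) \ Q = (P \ Q).erase a := by
      ext w
      simp only [Finset.mem_sdiff, Finset.mem_insert, Finset.mem_erase]
      constructor
      · rintro ⟨h | h, hwQ⟩
        · subst h; exact absurd hb.1 hwQ
        · exact ⟨h.1, h.2, hwQ⟩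
      · rintro ⟨h1, h2, h3⟩
        exact ⟨Or.inr ⟨h1, h2⟩, h3⟩
    have hn' : (insert b (P.erase a) \ Q).card = n := by
      rw [hsd, Finset.card_erase_of_mem (Finset.mem_sdiff.2 ha), hn]; rfl
    obtain ⟨τ', hτ', hτZ⟩ := ih (insert b (P.erase a)) hc' hP' hn'
    refine ⟨τ' * swap a b, ?_, ?_⟩
    · rw [Perm.coe_mul, ← Finset.image_image, E1_image_swap P a b ha.1 hb.2, hτ']
    · intro z hz
      have hza : z ≠ a := fun h => (Finset.disjoint_left.1 hP hz) (h ▸ ha.1)
      have hzb : z ≠ b := fun h => (Finset.disjoint_left.1 hQ hz) (h ▸ hb.1)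
      rw [Perm.mul_apply, swap_apply_of_ne_of_ne hza hzb]
      exact hτZ z hz

end Cfsg.Agent.S2506L
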