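import Mathlib

set_option autoImplicit false
open Equiv Equiv.Perm

namespace Cfsg.Agent.S2506L

/-- largest order of an abelian subgroup of `S_n` -/
def fS : ℕ → ℕ
  | 0 => 1
  | 1 => 1
  | 2 => 2
  | 3 => 3
  | 4 => 4
  | (n + 5) => 3 * fS (n + 2)

/-- largest order of an abelian subgroup of `A_n` -/
def fA : ℕ → ℕ
  | 0 => 1
  | 1 => 1
  | 2 => 1
  | 3 => 3
  | 4 => 4
  | 5 => 5
  | 6 => 9
  | 7 => 12
  | 8 => 16
  | (n + 9) => 3 * fA (n + 6)

variable {α : Type*} [Fintype α] [DecidableEq α]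

/-- every point moved by an element of `B` lies in `s` -/
def SuppLE (B : Subgroup (Perm α)) (s : Finset α) : Prop :=
  ∀ g ∈ B, ∀ x, g x ≠ x → x ∈ s

/-- `B` is abelian (elementwise form) -/
def Comm (B : Subgroup (Perm α)) : Prop :=
  ∀ a ∈ B, ∀ b ∈ B, a * b = b * a

/-- `B` is abelian, consists of even permutations, and moves only points of `s` -/
structure Adm (B : Subgroup (Perm α)) (s : Finset α) : Prop where
  comm : Comm B
  even : B ≤ alternatingGroup α
  supp : SuppLE B s

/-- the stabilizer of `x` in `B`, as a subgroup of `Perm α` -/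
def stab (B : Subgroup (Perm α)) (x : α) : Subgroup (Perm α) :=
  B ⊓ MulAction.stabilizer (Perm α) x

/-- the orbit of `x` under `B`, as a `Finset` -/
noncomputable def orb (B : Subgroup (Perm α)) (x : α) : Finset α :=
  haveI : DecidablePred (fun y : α => ∃ g ∈ B, g x = y) := Classical.decPred _
  Finset.univ.filter (fun y : α => ∃ g ∈ B, g x = y)

/-- even permutations, trivial outside `O`, which are `1` or fixed-point-free on `O` -/
def DSet (O : Finset α) : Set (Perm α) :=
  {g | sign g = 1 ∧ (∀ z, z ∉ O → g z = z) ∧ (g = 1 ∨ ∀ z ∈ O, g z ≠ z)}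

/-- `A = K × DSet O` with `K` a maximal admissible group on `s \ O` -/
def Splits (A : Subgroup (Perm α)) (s O : Finset α) (K : Subgroup (Perm α)) : Prop :=
  O ⊆ s ∧ Adm K (s \ O) ∧ Nat.card K = fA (s.card - O.card) ∧
    fA s.card = O.card * fA (s.card - O.card) ∧
    ∀ g : Perm α, g ∈ A ↔ ∃ k ∈ K, ∃ d ∈ DSet O, g = k * d

end Cfsg.Agent.S2506L
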