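import Cfsg.Agent.Lib.S2506.Defs
import Cfsg.Agent.Lib.S2506.Basic
import Cfsg.Agent.Lib.S2506.N
import Cfsg.Agent.Lib.S2506.Bd

set_option autoImplicit false
open Equiv Equiv.Perm
open scoped Pointwise

namespace Cfsg.Agent.S2506L

variable {α : Type*} [Fintype α] [DecidableEq α]

theorem Orb_apply_inv (f : Perm α) (z : α) : f (f⁻¹ z) = z := f.apply_symm_apply z

/-- closure of a set of pairwise commuting permutations is commutative (elementwise form) -/
theorem Orb_comm_closure (k : Set (Perm α)) (hcomm : ∀ a ∈ k, ∀ b ∈ k, a * b = b * a) :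
    Comm (Subgroup.closure k) := by
  intro a ha b hb
  have h := (Subgroup.isMulCommutative_closure hcomm).is_comm.comm
    (⟨a, ha⟩ : Subgroup.closure k) ⟨b, hb⟩
  exact congrArg Subtype.val h

/-- closure of a set of permutations fixing everything off `t` is supported on `t` -/
theorem Orb_supp_closure (k : Set (Perm α)) (t : Finset α)
    (hk : ∀ a ∈ k, ∀ z, a z ≠ z → z ∈ t) : SuppLE (Subgroup.closure k) t := by
  intro g hg z hz
  by_contra hzt
  apply hz
  have hle : Subgroup.closure k ≤ MulAction.stabilizer (Perm α) z := by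
    rw [Subgroup.closure_le]
    intro a ha
    rw [SetLike.mem_coe, MulAction.mem_stabilizer_iff]
    by_contra hne
    exact hzt (hk a ha z hne)
  have := hle hg
  rwa [MulAction.mem_stabilizer_iff] at this

/-- the part of `g` on the finset `O` (which `g` preserves): `g` on `O`, identity off `O` -/
noncomputable def Orb_part (g : Perm α) (O : Finset α) (hO : ∀ y, g y ∈ O ↔ y ∈ O) : Perm α :=
  ofSubtype (g.subtypePerm (p := fun y => y ∈ O) hO)

theorem Orb_part_mem (g : Perm α) (O : Finset α) (hO : ∀ y, g y ∈ O ↔ y ∈ O) (z : α)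
    (hz : z ∈ O) : Orb_part g O hO z = g z := by
  unfold Orb_part
  rw [ofSubtype_apply_of_mem (p := fun y => y ∈ O) _ hz]
  rfl

theorem Orb_part_notMem (g : Perm α) (O : Finset α) (hO : ∀ y, g y ∈ O ↔ y ∈ O) (z : α)
    (hz : z ∉ O) : Orb_part g O hO z = z := by
  unfold Orb_part
  exact ofSubtype_apply_of_not_mem (p := fun y => y ∈ O) _ hz

theorem Orb_part_sign (g : Perm α) (O : Finset α) (hO : ∀ y, g y ∈ O ↔ y ∈ O) :
    sign (Orb_part g O hO) = 1 ∨ sign (Orb_part g O hO) = -1 :=
  Int.units_eq_one_or _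

theorem orb_core (A : Subgroup (Perm α)) (s : Finset α) (h : Adm A s)
    (hcard : Nat.card A = fA s.card) (h3 : 3 ≤ s.card) (h5 : s.card ≠ 5) (x : α) (hx : x ∈ s) :
    ((orb A x).card = 3 ∨ (orb A x).card = 4) ∧
    Nat.card (stab A x) = fA (s.card - (orb A x).card) ∧
    fA s.card = (orb A x).card * fA (s.card - (orb A x).card) ∧
    ∀ g ∈ A, ∃ h ∈ A, (∀ z ∈ orb A x, h z = g z) ∧ (∀ z, z ∉ orb A x → h z = z) := by
  set O := orb A x with hOdef
  set K := stab A x with hKdef
  have hmul : Nat.card A = O.card * Nat.card K := card_eq_orb_mul_stab A x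
  have hKadm : Adm K (s \ O) := adm_stab h x
  have hOs : O ⊆ s := orb_subset h.supp hx
  have hsd : (s \ O).card = s.card - O.card := Finset.card_sdiff_of_subset hOs
  have hm1 : 1 ≤ O.card := Finset.card_pos.mpr ⟨x, self_mem_orb A x⟩
  have hmk : O.card ≤ s.card := Finset.card_le_card hOs
  have hKle : Nat.card K ≤ fA (s.card - O.card) := by
    have := card_le_fA K (s \ O) hKadm
    rwa [hsd] at this
  have hm2 : O.card ≠ 2 := by
    intro h2
    have h1 := card_le_fS_of_orb_two A s h x hx h2
    have h2' := fS_sub_two_lt s.card h3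
    omega
  have hle2 := fA_mul_le O.card s.card hm1 hm2 hmk
  have heq1 : O.card * Nat.card K = fA s.card := by rw [← hmul, hcard]
  have hle1 : O.card * Nat.card K ≤ O.card * fA (s.card - O.card) :=
    Nat.mul_le_mul_left _ hKle
  have heq2 : O.card * fA (s.card - O.card) = fA s.card := by omega
  have hKeq : Nat.card K = fA (s.card - O.card) := by
    have : O.card * Nat.card K = O.card * fA (s.card - O.card) := by omega
    exact Nat.eq_of_mul_eq_mul_left hm1 this
  obtain ⟨hm34, hkm2, -⟩ := fA_eq_cases O.card s.card h3 h5 hm1 hm2 hmk heq2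
  refine ⟨hm34, hKeq, heq2.symm, ?_⟩
  intro g hg
  have hO : ∀ y, g y ∈ O ↔ y ∈ O := fun y => apply_mem_orb_iff hg y
  set gO := Orb_part g O hO with hgO
  set g' := g * gO⁻¹ with hg'
  have hKA : K ≤ A := by
    intro k hk
    exact (mem_stab.mp hk).1
  have hKfix : ∀ k ∈ K, ∀ y ∈ O, k y = y := stab_fixes_orb h.comm x
  -- `gO` commutes with `K`
  have hgOK : ∀ k ∈ K, gO * k = k * gO := by
    intro k hk
    ext z
    rw [Perm.mul_apply, Perm.mul_apply]
    by_cases hz : z ∈ O
    · rw [hKfix k hk z hz, Orb_part_mem g O hO z hz, hKfix k hk (g z) ((hO z).mpr hz)]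
    · have hkz : k z ∉ O := fun hc => hz ((apply_mem_orb_iff (hKA hk) z).mp hc)
      rw [Orb_part_notMem g O hO z hz, Orb_part_notMem g O hO (k z) hkz]
  have hgK : ∀ k ∈ K, g * k = k * g := fun k hk => h.comm g hg k (hKA hk)
  have hg'K : ∀ k ∈ K, g' * k = k * g' := by
    intro k hk
    have h1 : gO⁻¹ * k = k * gO⁻¹ := by
      have := hgOK k hk
      calc gO⁻¹ * k = gO⁻¹ * (k * gO) * gO⁻¹ := by group
        _ = gO⁻¹ * (gO * k) * gO⁻¹ := by rw [this]
        _ = k * gO⁻¹ := by group
    rw [hg', mul_assoc, h1, ← mul_assoc, hgK k hk, mul_assoc]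
  -- values of `g'`
  have hgOinv_mem : ∀ z ∈ O, gO⁻¹ z ∈ O := by
    intro z hz
    by_contra hc
    have := Orb_part_notMem g O hO _ hc
    rw [Orb_apply_inv] at this
    exact hc (this ▸ hz)
  have hg'O : ∀ z ∈ O, g' z = z := by
    intro z hz
    rw [hg', Perm.mul_apply]
    have h1 : gO⁻¹ z ∈ O := hgOinv_mem z hz
    have h2 := Orb_part_mem g O hO _ h1
    rw [Orb_apply_inv] at h2
    rw [← h2]
  have hg'off : ∀ z, z ∉ O → g' z = g z := by
    intro z hz
    rw [hg', Perm.mul_apply]
    have : gO⁻¹ z = z := by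
      rw [Perm.inv_eq_iff_eq]
      exact (Orb_part_notMem g O hO z hz).symm
    rw [this]
  have hg'supp : ∀ z, g' z ≠ z → z ∈ s \ O := by
    intro z hz
    have hzO : z ∉ O := fun hc => hz (hg'O z hc)
    rw [Finset.mem_sdiff]
    refine ⟨h.supp g hg z ?_, hzO⟩
    rw [← hg'off z hzO]; exact hz
  -- the group `C = ⟨K, g'⟩`
  set gen : Set (Perm α) := (K : Set (Perm α)) ∪ {g'} with hgen
  have hgencomm : ∀ a ∈ gen, ∀ b ∈ gen, a * b = b * a := by
    intro a ha b hb
    rcases ha with ha | ha <;> rcases hb with hb | hb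
    · exact hKadm.comm a ha b hb
    · rw [Set.mem_singleton_iff] at hb
      rw [hb]; exact (hg'K a ha).symm
    · rw [Set.mem_singleton_iff] at ha
      rw [ha]; exact hg'K b hb
    · rw [Set.mem_singleton_iff] at ha hb
      rw [ha, hb]
  have hgensupp : ∀ a ∈ gen, ∀ z, a z ≠ z → z ∈ s \ O := by
    intro a ha z hz
    rcases ha with ha | ha
    · exact hKadm.supp a ha z hz
    · rw [Set.mem_singleton_iff] at ha
      rw [ha] at hz; exact hg'supp z hz
  set C := Subgroup.closure gen with hC
  have hCcomm : Comm C := Orb_comm_closure gen hgencomm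
  have hCsupp : SuppLE C (s \ O) := Orb_supp_closure gen (s \ O) hgensupp
  have hKC : K ≤ C := by
    intro k hk
    exact Subgroup.subset_closure (Or.inl hk)
  have hg'C : g' ∈ C := Subgroup.subset_closure (Or.inr rfl)
  have hgeven : sign g = 1 := Equiv.Perm.mem_alternatingGroup.mp (h.even hg)
  have hsg' : sign g' = sign gO := by
    rw [hg', map_mul, map_inv, hgeven, one_mul]
    rcases Orb_part_sign g O hO with h1 | h1 <;> rw [← hgO] at h1 <;> rw [h1] <;> rfl
  rcases Orb_part_sign g O hO with hs1 | hs1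
  · -- even part: `gO ∈ A`
    rw [← hgO] at hs1
    have hCeven : C ≤ alternatingGroup α := by
      rw [hC, Subgroup.closure_le]
      intro a ha
      rcases ha with ha | ha
      · exact hKadm.even ha
      · rw [Set.mem_singleton_iff] at ha
        rw [ha, SetLike.mem_coe, Equiv.Perm.mem_alternatingGroup, hsg', hs1]
    have hCadm : Adm C (s \ O) := ⟨hCcomm, hCeven, hCsupp⟩
    have hCle : Nat.card C ≤ Nat.card K := by
      have := card_le_fA C (s \ O) hCadm
      rw [hsd, ← hKeq] at this
      exact this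
    have hKC' : K = C := Subgroup.eq_of_le_of_card_ge hKC hCle
    have hg'A : g' ∈ A := hKA (hKC' ▸ hg'C)
    have hgOA : gO ∈ A := by
      have : gO = g'⁻¹ * g := by rw [hg']; group
      rw [this]
      exact A.mul_mem (A.inv_mem hg'A) hg
    exact ⟨gO, hgOA, fun z hz => Orb_part_mem g O hO z hz,
      fun z hz => Orb_part_notMem g O hO z hz⟩
  · -- odd part: impossible
    exfalso
    rw [← hgO] at hs1
    have hg'K' : g' ∉ K := by
      intro hc
      have := Equiv.Perm.mem_alternatingGroup.mp (hKadm.even hc)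
      rw [hsg', hs1] at this
      exact absurd this (by decide)
    have hKne : K ≠ C := fun hc => hg'K' (hc ▸ hg'C)
    have hKlt : K < C := lt_of_le_of_ne hKC hKne
    have hdvd : Nat.card K ∣ Nat.card C := Subgroup.card_dvd_of_le hKC
    have hne : Nat.card K ≠ Nat.card C := by
      intro hc
      exact hKne (Subgroup.eq_of_le_of_card_ge hKC (le_of_eq hc.symm))
    have hKpos : 0 < Nat.card K := Nat.card_pos
    have hCpos : 0 < Nat.card C := Nat.card_pos
    have h2K : 2 * Nat.card K ≤ Nat.card C := by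
      obtain ⟨c, hc⟩ := hdvd
      have hc1 : c ≠ 1 := by
        intro h1
        rw [h1, mul_one] at hc
        exact hne hc.symm
      have hc0 : c ≠ 0 := by
        intro h0
        rw [h0, mul_zero] at hc
        omega
      have : 2 ≤ c := by omega
      calc 2 * Nat.card K = Nat.card K * 2 := by ring
        _ ≤ Nat.card K * c := Nat.mul_le_mul_left _ this
        _ = Nat.card C := hc.symm
    have hCfS : Nat.card C ≤ fS (s.card - O.card) := by
      have := card_le_fS C (s \ O) hCcomm hCsupp
      rwa [hsd] at this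
    have hlt := fS_lt_two_fA (s.card - O.card) hkm2
    omega

end Cfsg.Agent.S2506L
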