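import Cfsg.Agent.Lib.S2506.Defs

set_option autoImplicit false
set_option linter.unusedSectionVars false
open Equiv Equiv.Perm

namespace Cfsg.Agent.S2506L

set_option maxRecDepth 100000 in
theorem U_fin3 : ∀ g h : Perm (Fin 3), sign g = 1 → sign h = 1 → (∀ y, g y ≠ y) → (∀ y, h y ≠ y) →
    ∀ y, g y = h y → g = h := by decide

set_option maxRecDepth 100000 in
theorem U_fin4 : ∀ g h : Perm (Fin 4), sign g = 1 → sign h = 1 → (∀ y, g y ≠ y) → (∀ y, h y ≠ y) →
    ∀ y, g y = h y → g = h := by decide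

variable {α : Type*} [Fintype α] [DecidableEq α]

/-- a permutation which is the identity off `O` preserves `O` -/
theorem U_mem_iff (O : Finset α) (d : Perm α) (h : ∀ z, z ∉ O → d z = z) (z : α) :
    d z ∈ O ↔ z ∈ O := by
  constructor
  · intro hz
    by_contra hn
    rw [h z hn] at hz
    exact hn hz
  · intro hz
    by_contra hn
    have := h _ hn
    have h2 : d z = z := d.injective this
    rw [h2] at hn
    exact hn hz

theorem U_core (m : ℕ)
    (hm : ∀ g h : Perm (Fin m), sign g = 1 → sign h = 1 → (∀ y, g y ≠ y) → (∀ y, h y ≠ y) →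
      ∀ y, g y = h y → g = h)
    (O : Finset α) (hO : O.card = m) (d r : Perm α)
    (hd1 : sign d = 1) (hd2 : ∀ z, z ∉ O → d z = z) (hd3 : ∀ z ∈ O, d z ≠ z)
    (hr1 : sign r = 1) (hr2 : ∀ z, z ∉ O → r z = z) (hr3 : ∀ z ∈ O, r z ≠ z)
    (x : α) (hx : x ∈ O) (h : d x = r x) : d = r := by
  have hdm := U_mem_iff O d hd2
  have hrm := U_mem_iff O r hr2
  have hds : ∀ z, d z ≠ z → z ∈ O := fun z hz => by
    by_contra hn; exact hz (hd2 z hn)
  have hrs : ∀ z, r z ≠ z → z ∈ O := fun z hz => by
    by_contra hn; exact hz (hr2 z hn)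
  have e : {z // z ∈ O} ≃ Fin m := Fintype.equivFinOfCardEq (by rw [Fintype.card_coe, hO])
  set dO : Perm {z // z ∈ O} := d.subtypePerm hdm with hdO
  set rO : Perm {z // z ∈ O} := r.subtypePerm hrm with hrO
  have key : e.permCongr dO = e.permCongr rO := by
    apply hm _ _ _ _ _ _ (e ⟨x, hx⟩)
    · simp only [Equiv.permCongr_apply, Equiv.symm_apply_apply]
      congr 1
      apply Subtype.ext
      simp [hdO, hrO, h]
    · rw [sign_permCongr, hdO]
      have h5 := sign_subtypePerm d hdm hds
      rw [hd1] at h5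
      convert h5
    · rw [sign_permCongr, hrO]
      have h5 := sign_subtypePerm r hrm hrs
      rw [hr1] at h5
      convert h5
    · intro y hy
      rw [Equiv.permCongr_apply] at hy
      have h1 : dO (e.symm y) = e.symm y := (Equiv.eq_symm_apply e).2 hy
      have h2 := congrArg Subtype.val h1
      simp only [hdO, subtypePerm_apply] at h2
      exact hd3 _ (e.symm y).2 h2
    · intro y hy
      rw [Equiv.permCongr_apply] at hy
      have h1 : rO (e.symm y) = e.symm y := (Equiv.eq_symm_apply e).2 hy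
      have h2 := congrArg Subtype.val h1
      simp only [hrO, subtypePerm_apply] at h2
      exact hr3 _ (e.symm y).2 h2
  have key2 : dO = rO := (e.permCongr).injective key
  have h1 : ofSubtype dO = d := ofSubtype_subtypePerm hdm hds
  have h2 : ofSubtype rO = r := ofSubtype_subtypePerm hrm hrs
  rw [← h1, ← h2, key2]

theorem dset_unique (O : Finset α) (hO : O.card = 3 ∨ O.card = 4) (d r : Perm α)
    (hd : d ∈ DSet O) (hr : r ∈ DSet O) (x : α) (hx : x ∈ O) (h : d x = r x) : d = r := by
  obtain ⟨hd1, hd2, hd3⟩ := hd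
  obtain ⟨hr1, hr2, hr3⟩ := hr
  rcases hd3 with rfl | hd3
  · rcases hr3 with rfl | hr3
    · rfl
    · exact absurd h.symm (hr3 x hx)
  · rcases hr3 with rfl | hr3
    · exact absurd h (hd3 x hx)
    · rcases hO with hO | hO
      · exact U_core 3 U_fin3 O hO d r hd1 hd2 hd3 hr1 hr2 hr3 x hx h
      · exact U_core 4 U_fin4 O hO d r hd1 hd2 hd3 hr1 hr2 hr3 x hx h

end Cfsg.Agent.S2506L
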