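import Mathlib
import Cfsg.Agent.Lib.S2506.Defs
import Cfsg.Agent.Lib.S2506.Basic
import Cfsg.Agent.Lib.S2506.U
import Cfsg.Agent.Lib.S2506.Orb

/-!
S2506 piece Split (helper2): the splitting `A = K × DSet O` of an admissible group of maximal
order at an orbit `O`.
-/

set_option autoImplicit false
set_option linter.unusedSectionVars false
set_option linter.unusedVariables false
open Equiv Equiv.Perm
open scoped Pointwise

namespace Cfsg.Agent.S2506L

variable {α : Type*} [Fintype α] [DecidableEq α]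

/-- an element of an abelian even group which is trivial off an orbit lies in `DSet` of that
orbit. -/
theorem Split_mem_dset (A : Subgroup (Perm α)) (hc : Comm A) (he : A ≤ alternatingGroup α)
    (x : α) (d : Perm α) (hd : d ∈ A) (hoff : ∀ z, z ∉ orb A x → d z = z) :
    d ∈ DSet (orb A x) := by
  refine ⟨mem_alternatingGroup.1 (he hd), hoff, ?_⟩
  by_cases hfix : ∃ z ∈ orb A x, d z = z
  · left
    obtain ⟨z, hz, hdz⟩ := hfix
    obtain ⟨a, ha, rfl⟩ := mem_orb.1 hz
    -- `d x = x`
    have hdx : d x = x := by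
      have h1 : d (a x) = a (d x) := by
        have := hc d hd a ha
        calc d (a x) = (d * a) x := rfl
          _ = (a * d) x := by rw [this]
          _ = a (d x) := rfl
      rw [h1] at hdz
      exact a.injective hdz
    have hst : d ∈ stab A x := mem_stab.2 ⟨hd, hdx⟩
    ext y
    by_cases hy : y ∈ orb A x
    · rw [stab_fixes_orb hc x d hst y hy]; rfl
    · rw [hoff y hy]; rfl
  · right
    intro z hz hdz
    exact hfix ⟨z, hz, hdz⟩

theorem splits_at (A : Subgroup (Perm α)) (s : Finset α) (h : Adm A s)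
    (hcard : Nat.card A = fA s.card) (h3 : 3 ≤ s.card) (h5 : s.card ≠ 5) (x : α) (hx : x ∈ s) :
    ((orb A x).card = 3 ∨ (orb A x).card = 4) ∧ Splits A s (orb A x) (stab A x) := by
  obtain ⟨c1, c2, c3, c4⟩ := orb_core A s h hcard h3 h5 x hx
  refine ⟨c1, orb_subset h.supp hx, adm_stab h x, c2, c3, ?_⟩
  intro g
  constructor
  · intro hg
    obtain ⟨d, hdA, hdO, hdoff⟩ := c4 g hg
    have hk : d⁻¹ * g ∈ stab A x := by
      refine mem_stab.2 ⟨A.mul_mem (A.inv_mem hdA) hg, ?_⟩
      have h1 : d x = g x := hdO x (self_mem_orb A x)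
      show d⁻¹ (g x) = x
      rw [← h1]
      simp
    refine ⟨d⁻¹ * g, hk, d, Split_mem_dset A h.comm h.even x d hdA hdoff, ?_⟩
    have hcomm : g * d = d * g := h.comm g hg d hdA
    rw [mul_assoc, hcomm, ← mul_assoc, inv_mul_cancel, one_mul]
  · rintro ⟨k, hk, d, hd, rfl⟩
    have hkA : k ∈ A := (mem_stab.1 hk).1
    refine A.mul_mem hkA ?_
    obtain ⟨hsign, hoff, h1 | hfpf⟩ := hd
    · rw [h1]; exact A.one_mem
    · have hxO : x ∈ orb A x := self_mem_orb A x
      have hdx : d x ∈ orb A x := by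
        by_contra hno
        have h2 : d (d x) = d x := hoff _ hno
        have h3' : d x = x := d.injective h2
        rw [h3'] at hno
        exact hno hxO
      obtain ⟨a, ha, hax⟩ := mem_orb.1 hdx
      obtain ⟨r, hrA, hrO, hroff⟩ := c4 a ha
      have hr : r ∈ DSet (orb A x) := Split_mem_dset A h.comm h.even x r hrA hroff
      have hdr : d = r := by
        refine dset_unique (orb A x) c1 d r ⟨hsign, hoff, Or.inr hfpf⟩ hr x hxO ?_
        rw [hrO x hxO, hax]
      rw [hdr]; exact hrA

theorem exists_splits_four (A : Subgroup (Perm α)) (s : Finset α) (h : Adm A s)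
    (hcard : Nat.card A = fA s.card) (h3 : 3 ≤ s.card) (h5 : s.card ≠ 5)
    (hdvd : ¬ 3 ∣ fA s.card) :
    ∃ (O : Finset α) (K : Subgroup (Perm α)), O.card = 4 ∧ Splits A s O K := by
  have hne : s.Nonempty := by
    rw [← Finset.card_pos]; omega
  obtain ⟨x, hx⟩ := hne
  obtain ⟨c1, hS⟩ := splits_at A s h hcard h3 h5 x hx
  refine ⟨orb A x, stab A x, ?_, hS⟩
  rcases c1 with c1 | c1
  · exfalso
    apply hdvd
    rw [hS.2.2.2.1, c1]
    exact Dvd.intro _ rfl
  · exact c1

theorem exists_splits_three (A : Subgroup (Perm α)) (s : Finset α) (h : Adm A s)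
    (hcard : Nat.card A = fA s.card) (h3 : 3 ≤ s.card) (h5 : s.card ≠ 5)
    (hdvd : 3 ∣ fA s.card) :
    ∃ (O : Finset α) (K : Subgroup (Perm α)), O.card = 3 ∧ Splits A s O K := by
  have : Fact (Nat.Prime 3) := ⟨Nat.prime_three⟩
  rw [← hcard] at hdvd
  obtain ⟨b, hb⟩ := exists_prime_orderOf_dvd_card' (G := ↥A) 3 hdvd
  -- `b` moves some point `x`
  have hb1 : b ≠ 1 := by
    intro h1
    rw [h1, orderOf_one] at hb
    omega
  have hmove : ∃ x, (b : Perm α) x ≠ x := by
    by_contra hno
    push Not at hno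
    apply hb1
    apply Subtype.ext
    ext y
    exact hno y
  obtain ⟨x, hbx⟩ := hmove
  have hx : x ∈ s := h.supp b b.2 x hbx
  obtain ⟨c1, hS⟩ := splits_at A s h hcard h3 h5 x hx
  refine ⟨orb A x, stab A x, ?_, hS⟩
  -- the quotient of `A` by the stabilizer has `|orb A x|` elements
  have hN : (MulAction.stabilizer ↥A x).Normal := ⟨fun n hn g => by
    have hgn : g * n * g⁻¹ = n := by
      have hgn' : g * n = n * g := Subtype.ext (h.comm g g.2 n n.2)
      rw [hgn', mul_inv_cancel_right]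
    rw [hgn]; exact hn⟩
  have hq : Nat.card (↥A ⧸ MulAction.stabilizer ↥A x) = (orb A x).card := by
    rw [← Nat.card_congr (MulAction.orbitEquivQuotientStabilizer ↥A x), Basic_orbit_eq,
      Nat.card_coe_set_eq, Set.ncard_coe_finset]
  have hq3 : ((QuotientGroup.mk b : ↥A ⧸ MulAction.stabilizer ↥A x)) ^ 3 = 1 := by
    rw [← QuotientGroup.mk_pow, ← hb, pow_orderOf_eq_one]
    rfl
  have hq1 : (QuotientGroup.mk b : ↥A ⧸ MulAction.stabilizer ↥A x) ≠ 1 := by
    intro h1
    rw [QuotientGroup.eq_one_iff, MulAction.mem_stabilizer_iff] at h1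
    exact hbx h1
  have hord : orderOf (QuotientGroup.mk b : ↥A ⧸ MulAction.stabilizer ↥A x) = 3 :=
    orderOf_eq_prime hq3 hq1
  have hd3 : 3 ∣ (orb A x).card := by
    rw [← hq, ← hord]
    exact orderOf_dvd_natCard _
  rcases c1 with c1 | c1
  · exact c1
  · rw [c1] at hd3
    omega

end Cfsg.Agent.S2506L
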