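import Cfsg.Agent.Lib.S2506.Basic
import Cfsg.Agent.Lib.S2506.N
import Cfsg.Agent.Lib.S2506.E1
import Cfsg.Agent.Lib.S2506.Split

set_option autoImplicit false
set_option linter.unusedSectionVars false
open Equiv Equiv.Perm

namespace Cfsg.Agent.S2506L

variable {α : Type*} [Fintype α] [DecidableEq α]

theorem Conj_dset_conj (O : Finset α) (σ d : Perm α) (hd : d ∈ DSet O) :
    σ * d * σ⁻¹ ∈ DSet (O.image σ) := by
  obtain ⟨h1, h2, h3⟩ := hd
  refine ⟨?_, ?_, ?_⟩
  · rw [Perm.sign_mul, Perm.sign_mul, Perm.sign_inv, h1, mul_one, Int.units_mul_self]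
  · intro z hz
    have h4 : σ⁻¹ z ∉ O := fun h => hz (Finset.mem_image.2 ⟨σ⁻¹ z, h, by simp⟩)
    rw [Perm.mul_apply, Perm.mul_apply, h2 _ h4]
    simp
  · rcases h3 with rfl | h3
    · left; simp
    · right
      intro z hz
      obtain ⟨w, hw, rfl⟩ := Finset.mem_image.1 hz
      have h4 : σ⁻¹ (σ w) = w := by simp
      rw [Perm.mul_apply, Perm.mul_apply, h4]
      intro h5
      exact h3 w hw (σ.injective h5)

theorem Conj_conj_eq_of_fix (T : Finset α) (τ h : Perm α) (hτ : ∀ z ∈ T, τ z = z)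
    (hh : ∀ z, h z ≠ z → z ∈ T) : τ * h * τ⁻¹ = h := by
  ext z
  simp only [Perm.mul_apply]
  by_cases hz : z ∈ T
  · have h1 : τ⁻¹ z = z := by
      rw [Perm.inv_eq_iff_eq]; exact (hτ z hz).symm
    rw [h1]
    have : h z ∈ T := by
      by_cases hm : h z = z
      · rw [hm]; exact hz
      · exact hh _ (fun e => hm (h.injective e))
    exact hτ _ this
  · have h1 : τ⁻¹ z ∉ T := by
      intro hin
      have h2 := hτ _ hin
      have h3 : τ (τ⁻¹ z) = z := by simp
      rw [h3] at h2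
      exact hz (h2 ▸ hin)
    have h2 : h (τ⁻¹ z) = τ⁻¹ z := by
      by_contra hne; exact h1 (hh _ hne)
    have h3 : h z = z := by
      by_contra hne; exact hz (hh _ hne)
    rw [h2, h3]; simp

theorem Conj_transfer (A B : Subgroup (Perm α)) (s t O O' : Finset α) (K K' : Subgroup (Perm α))
    (hA : Splits A s O K) (hB : Splits B t O' K') (σ : Perm α)
    (hK : ∀ k ∈ K, σ * k * σ⁻¹ ∈ K') (hO : O.image σ = O') :
    ∀ g ∈ A, σ * g * σ⁻¹ ∈ B := by
  intro g hg
  obtain ⟨k, hk, d, hd, rfl⟩ := (hA.2.2.2.2 g).1 hg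
  refine (hB.2.2.2.2 _).2 ⟨σ * k * σ⁻¹, hK k hk, σ * d * σ⁻¹, ?_, by group⟩
  rw [← hO]
  exact Conj_dset_conj O σ d hd

theorem Conj_image_fix (Z : Finset α) (τ : Perm α) (h : ∀ z ∈ Z, τ z = z) : Z.image τ = Z := by
  ext w
  rw [Finset.mem_image]
  constructor
  · rintro ⟨a, ha, rfl⟩
    rw [h a ha]; exact ha
  · intro hw
    exact ⟨w, hw, h w hw⟩

theorem conj_ind (k : ℕ) : ∀ (s t : Finset α) (A B : Subgroup (Perm α)), s.card = k → t.card = k →
    k ≠ 5 → Adm A s → Adm B t → Nat.card A = fA k → Nat.card B = fA k →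
    ∃ σ : Perm α, s.image σ = t ∧ ∀ g : Perm α, g ∈ A ↔ σ * g * σ⁻¹ ∈ B := by
  induction k using Nat.strong_induction_on with
  | _ k ih =>
  intro s t A B hs ht h5 hA hB hcA hcB
  by_cases hk : k ≤ 2
  · have h1 : fA k = 1 := by
      interval_cases k <;> rfl
    rw [h1] at hcA hcB
    have hAb : A = ⊥ := Subgroup.card_eq_one.1 hcA
    have hBb : B = ⊥ := Subgroup.card_eq_one.1 hcB
    obtain ⟨τ, hτ, -⟩ := exists_perm_image_eq s t ∅ (by rw [hs, ht]) (Finset.disjoint_empty_left _)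
      (Finset.disjoint_empty_left _)
    refine ⟨τ, hτ, ?_⟩
    intro g
    rw [hAb, hBb, Subgroup.mem_bot, Subgroup.mem_bot]
    constructor
    · rintro rfl; simp
    · intro h
      have : g = τ⁻¹ * (τ * g * τ⁻¹) * τ := by group
      rw [this, h]; simp
  · have hk3 : 3 ≤ k := by omega
    -- choose matching orbits
    have hex : ∃ m : ℕ, (m = 3 ∨ m = 4) ∧
        (∃ (O : Finset α) (K : Subgroup (Perm α)), O.card = m ∧ Splits A s O K) ∧
        (∃ (O : Finset α) (K : Subgroup (Perm α)), O.card = m ∧ Splits B t O K) := by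
      by_cases h3 : 3 ∣ fA k
      · exact ⟨3, Or.inl rfl,
          exists_splits_three A s hA (by rw [hs]; exact hcA) (by omega) (by omega) (by rw [hs]; exact h3),
          exists_splits_three B t hB (by rw [ht]; exact hcB) (by omega) (by omega) (by rw [ht]; exact h3)⟩
      · exact ⟨4, Or.inr rfl,
          exists_splits_four A s hA (by rw [hs]; exact hcA) (by omega) (by omega) (by rw [hs]; exact h3),
          exists_splits_four B t hB (by rw [ht]; exact hcB) (by omega) (by omega) (by rw [ht]; exact h3)⟩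
    obtain ⟨m, hm, ⟨O, K, hOc, hSA⟩, ⟨O', K', hOc', hSB⟩⟩ := hex
    have hOs : O ⊆ s := hSA.1
    have hOt : O' ⊆ t := hSB.1
    have hmk : m ≤ k := by
      rw [← hOc, ← hs]; exact Finset.card_le_card hOs
    have hfa : m * fA (k - m) = fA k := by
      have := hSA.2.2.2.1
      rw [hs, hOc] at this
      exact this.symm
    obtain ⟨-, -, hkm5⟩ := fA_eq_cases m k hk3 h5 (by omega) (by omega) hmk hfa
    have hcs : (s \ O).card = k - m := by
      rw [Finset.card_sdiff_of_subset hOs, hs, hOc]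
    have hct : (t \ O').card = k - m := by
      rw [Finset.card_sdiff_of_subset hOt, ht, hOc']
    have hcK : Nat.card K = fA (k - m) := by
      have := hSA.2.2.1; rw [hs, hOc] at this; exact this
    have hcK' : Nat.card K' = fA (k - m) := by
      have := hSB.2.2.1; rw [ht, hOc'] at this; exact this
    obtain ⟨σ0, hσ0, hσ0K⟩ := ih (k - m) (by omega) (s \ O) (t \ O') K K' hcs hct hkm5
      hSA.2.1 hSB.2.1 hcK hcK'
    obtain ⟨τ, hτO, hτZ⟩ := exists_perm_image_eq (O.image σ0) O' (t \ O')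
      (by rw [Finset.card_image_of_injective _ σ0.injective, hOc, hOc'])
      (by rw [← hσ0, Finset.disjoint_image σ0.injective]; exact Finset.sdiff_disjoint)
      Finset.sdiff_disjoint
    have hτinv : ∀ z ∈ t \ O', τ⁻¹ z = z := by
      intro z hz
      rw [Perm.inv_eq_iff_eq]; exact (hτZ z hz).symm
    have hσO : O.image (⇑(τ * σ0)) = O' := by
      rw [Perm.coe_mul, ← Finset.image_image]; exact hτO
    refine ⟨τ * σ0, ?_, ?_⟩
    · have hsplit : s = (s \ O) ∪ O := (Finset.sdiff_union_of_subset hOs).symm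
      have h1 : (s \ O).image (⇑(τ * σ0)) = t \ O' := by
        rw [Perm.coe_mul, ← Finset.image_image, hσ0]
        exact Conj_image_fix _ τ hτZ
      rw [hsplit, Finset.image_union, h1, hσO, Finset.sdiff_union_of_subset hOt]
    · intro g
      constructor
      · apply Conj_transfer A B s t O O' K K' hSA hSB (τ * σ0) _ hσO
        intro k hk
        have h1 : σ0 * k * σ0⁻¹ ∈ K' := (hσ0K k).1 hk
        have h2 : τ * (σ0 * k * σ0⁻¹) * τ⁻¹ = σ0 * k * σ0⁻¹ :=
          Conj_conj_eq_of_fix (t \ O') τ _ hτZ (fun z hz => hSB.2.1.supp _ h1 z hz)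
        have h3 : τ * σ0 * k * (τ * σ0)⁻¹ = τ * (σ0 * k * σ0⁻¹) * τ⁻¹ := by group
        rw [h3, h2]; exact h1
      · intro hg
        have hO' : O'.image (⇑(τ * σ0)⁻¹) = O := by
          rw [← hσO, Finset.image_image]
          have : (⇑(τ * σ0)⁻¹ ∘ ⇑(τ * σ0)) = id := by
            funext w; simp
          rw [this, Finset.image_id]
        have := Conj_transfer B A t s O' O K' K hSB hSA (τ * σ0)⁻¹ ?_ hO' _ hg
        · have e : (τ * σ0)⁻¹ * (τ * σ0 * g * (τ * σ0)⁻¹) * (τ * σ0)⁻¹⁻¹ = g := by group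
          rw [e] at this; exact this
        · intro k' hk'
          have h2 : τ⁻¹ * k' * τ⁻¹⁻¹ = k' :=
            Conj_conj_eq_of_fix (t \ O') τ⁻¹ _ hτinv (fun z hz => hSB.2.1.supp _ hk' z hz)
          have h3 : (τ * σ0)⁻¹ * k' * (τ * σ0)⁻¹⁻¹ = σ0⁻¹ * (τ⁻¹ * k' * τ⁻¹⁻¹) * σ0 := by group
          rw [h3, h2, hσ0K]
          have h4 : σ0 * (σ0⁻¹ * k' * σ0) * σ0⁻¹ = k' := by group
          rw [h4]; exact hk'

theorem swap_conj_mem (A : Subgroup (Perm α)) (s O : Finset α) (K : Subgroup (Perm α))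
    (hS : Splits A s O K) (y z : α) (hy : y ∈ O) (hz : z ∈ O) :
    ∀ g : Perm α, g ∈ A → swap y z * g * swap y z ∈ A := by
  intro g hg
  have hfix : ∀ w ∈ s \ O, swap y z w = w := by
    intro w hw
    rw [Finset.mem_sdiff] at hw
    apply swap_apply_of_ne_of_ne
    · rintro rfl; exact hw.2 hy
    · rintro rfl; exact hw.2 hz
  have hmem : ∀ w ∈ O, swap y z w ∈ O := by
    intro w hw
    by_cases h1 : w = y
    · subst h1; rw [swap_apply_left]; exact hz
    by_cases h2 : w = z
    · subst h2; rw [swap_apply_right]; exact hy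
    rw [swap_apply_of_ne_of_ne h1 h2]; exact hw
  have hO : O.image (⇑(swap y z)) = O := by
    ext w
    rw [Finset.mem_image]
    constructor
    · rintro ⟨a, ha, rfl⟩; exact hmem a ha
    · intro hw; exact ⟨swap y z w, hmem w hw, swap_apply_self y z w⟩
  have := Conj_transfer A A s s O O K K hS hS (swap y z) ?_ hO g hg
  · rw [swap_inv] at this; exact this
  · intro k hk
    rw [Conj_conj_eq_of_fix (s \ O) (swap y z) k hfix (fun w hw => hS.2.1.supp _ hk w hw)]
    exact hk

end Cfsg.Agent.S2506L
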