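import Mathlib
import Cfsg.Agent.Lib.S2506.Defs

/-!
S2506 piece Ex (helper2): for `n ≠ 5` there is an abelian subgroup of even permutations of
`Fin n` of order `fA n`.
-/

set_option autoImplicit false
open Equiv Equiv.Perm
open scoped Pointwise

namespace Cfsg.Agent.S2506L

/-- the embedding `Perm (Fin a) × Perm (Fin b) →* Perm (Fin (a + b))` -/
noncomputable def Ex_emb (a b : ℕ) : Perm (Fin a) × Perm (Fin b) →* Perm (Fin (a + b)) :=
  ((finSumFinEquiv (m := a) (n := b)).permCongrHom.toMonoidHom).comp (sumCongrHom (Fin a) (Fin b))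

theorem Ex_emb_injective (a b : ℕ) : Function.Injective (Ex_emb a b) := by
  unfold Ex_emb
  exact ((finSumFinEquiv (m := a) (n := b)).permCongrHom.injective).comp sumCongrHom_injective

theorem Ex_emb_sign (a b : ℕ) (g : Perm (Fin a)) (h : Perm (Fin b)) :
    sign (Ex_emb a b (g, h)) = sign g * sign h := by
  have h1 : Ex_emb a b (g, h) = (finSumFinEquiv (m := a) (n := b)).permCongr (Equiv.Perm.sumCongr g h) := rfl
  rw [h1, sign_permCongr, sign_sumCongr]

theorem Ex_prod (a b m : ℕ) (hm : m = a + b) (Ba : Subgroup (Perm (Fin a)))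
    (Bb : Subgroup (Perm (Fin b))) (ha : Adm Ba Finset.univ) (hb : Adm Bb Finset.univ) :
    ∃ B : Subgroup (Perm (Fin m)), Adm B Finset.univ ∧
      Nat.card B = Nat.card Ba * Nat.card Bb := by
  subst hm
  refine ⟨(Ba.prod Bb).map (Ex_emb a b), ⟨?_, ?_, fun _ _ x _ => Finset.mem_univ x⟩, ?_⟩
  · rintro _ ⟨⟨g1, h1⟩, hx, rfl⟩ _ ⟨⟨g2, h2⟩, hy, rfl⟩
    rw [SetLike.mem_coe, Subgroup.mem_prod] at hx hy
    rw [← map_mul, ← map_mul]
    congr 1
    exact Prod.ext (ha.comm g1 hx.1 g2 hy.1) (hb.comm h1 hx.2 h2 hy.2)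
  · rintro _ ⟨⟨g, h⟩, hx, rfl⟩
    rw [SetLike.mem_coe, Subgroup.mem_prod] at hx
    rw [mem_alternatingGroup, Ex_emb_sign]
    have h1 := ha.even hx.1
    have h2 := hb.even hx.2
    rw [mem_alternatingGroup] at h1 h2
    rw [h1, h2, mul_one]
  · rw [Subgroup.card_map_of_injective (Ex_emb_injective a b),
      Nat.card_congr (Subgroup.prodEquiv Ba Bb).toEquiv, Nat.card_prod]

theorem Ex_bot (n : ℕ) : ∃ B : Subgroup (Perm (Fin n)), Adm B Finset.univ ∧ Nat.card B = 1 := by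
  refine ⟨⊥, ⟨?_, bot_le, fun _ _ x _ => Finset.mem_univ x⟩, Subgroup.card_bot⟩
  intro a ha b hb
  rw [Subgroup.mem_bot] at ha hb
  rw [ha, hb]

theorem Ex_three : ∃ B : Subgroup (Perm (Fin 3)), Adm B Finset.univ ∧ Nat.card B = 3 := by
  refine ⟨Subgroup.zpowers (finRotate 3), ⟨?_, ?_, fun _ _ x _ => Finset.mem_univ x⟩, ?_⟩
  · intro a ha b hb
    obtain ⟨i, rfl⟩ := Subgroup.mem_zpowers_iff.1 ha
    obtain ⟨j, rfl⟩ := Subgroup.mem_zpowers_iff.1 hb
    exact (Commute.refl (finRotate 3)).zpow_zpow i j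
  · rw [Subgroup.zpowers_le, mem_alternatingGroup, sign_finRotate]
    norm_num
  · rw [Nat.card_zpowers]
    have h := (isCycle_finRotate (n := 1)).orderOf
    rw [support_finRotate] at h
    simpa using h

theorem Ex_four : ∃ B : Subgroup (Perm (Fin 4)), Adm B Finset.univ ∧ Nat.card B = 4 := by
  have h4 : Nat.card (Fin 4) = 4 := by simp
  refine ⟨(alternatingGroup.kleinFour (Fin 4)).map (alternatingGroup (Fin 4)).subtype,
    ⟨?_, ?_, fun _ _ x _ => Finset.mem_univ x⟩, ?_⟩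
  · rintro _ ⟨a, ha, rfl⟩ _ ⟨b, hb, rfl⟩
    have hexp := alternatingGroup.exponent_kleinFour_of_card_eq_four h4
    have hcomm := mul_comm_of_exponent_two hexp ⟨a, ha⟩ ⟨b, hb⟩
    have h1 : a * b = b * a := by
      have := congrArg (fun z : ↥(alternatingGroup.kleinFour (Fin 4)) =>
        (z : ↥(alternatingGroup (Fin 4)))) hcomm
      simpa using this
    rw [← map_mul, ← map_mul, h1]
  · rintro _ ⟨a, -, rfl⟩
    exact a.2
  · rw [Subgroup.card_map_of_injective (alternatingGroup (Fin 4)).subtype_injective]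
    exact alternatingGroup.kleinFour_card_of_card_eq_four h4

/-- Piece Ex. -/
theorem exists_adm_card (n : ℕ) (h5 : n ≠ 5) :
    ∃ B : Subgroup (Perm (Fin n)), Adm B Finset.univ ∧ Nat.card B = fA n := by
  induction n using Nat.strong_induction_on with
  | _ n ih =>
    match n, h5, ih with
    | 0, _, _ => exact Ex_bot 0
    | 1, _, _ => exact Ex_bot 1
    | 2, _, _ => exact Ex_bot 2
    | 3, _, _ => exact Ex_three
    | 4, _, _ => exact Ex_four
    | 5, h5, _ => exact absurd rfl h5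
    | 6, _, _ =>
      obtain ⟨B3, h3, hc3⟩ := Ex_three
      obtain ⟨B, hB, hc⟩ := Ex_prod 3 3 6 rfl B3 B3 h3 h3
      exact ⟨B, hB, by rw [hc, hc3]; rfl⟩
    | 7, _, _ =>
      obtain ⟨B3, h3, hc3⟩ := Ex_three
      obtain ⟨B4, h4, hc4⟩ := Ex_four
      obtain ⟨B, hB, hc⟩ := Ex_prod 3 4 7 rfl B3 B4 h3 h4
      exact ⟨B, hB, by rw [hc, hc3, hc4]; rfl⟩
    | 8, _, _ =>
      obtain ⟨B4, h4, hc4⟩ := Ex_four
      obtain ⟨B, hB, hc⟩ := Ex_prod 4 4 8 rfl B4 B4 h4 h4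
      exact ⟨B, hB, by rw [hc, hc4]; rfl⟩
    | (k + 9), _, ih =>
      obtain ⟨B3, h3, hc3⟩ := Ex_three
      obtain ⟨B', hB', hc'⟩ := ih (k + 6) (by omega) (by omega)
      obtain ⟨B, hB, hc⟩ := Ex_prod 3 (k + 6) (k + 9) (by omega) B3 B' h3 hB'
      refine ⟨B, hB, ?_⟩
      rw [hc, hc3, hc']
      rfl

end Cfsg.Agent.S2506L
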