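import Mathlib

set_option autoImplicit false
open Equiv Equiv.Perm
open scoped Pointwise

namespace Cfsg.Agent.S2506L

set_option maxRecDepth 100000 in
/-- element orders in `A₅` are `1, 2, 3, 5`. -/
theorem N5_orders :
    ∀ g : Perm (Fin 5), Perm.sign g = 1 → g ^ 2 = 1 ∨ g ^ 3 = 1 ∨ g ^ 5 = 1 := by
  decide

theorem N5_card_alt : Nat.card (alternatingGroup (Fin 5)) = 60 := by
  have h := two_mul_card_alternatingGroup (α := Fin 5)
  rw [Fintype.card_perm, Fintype.card_fin] at h
  rw [Nat.card_eq_fintype_card]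
  have : (5 : ℕ).factorial = 120 := by decide
  omega

/-- no element of `A₅` has order `p * q` for distinct primes `p, q ∈ {2, 3, 5}`. -/
theorem N5_no_mixed (g : alternatingGroup (Fin 5)) (m : ℕ) (hm : m = 6 ∨ m = 10 ∨ m = 15)
    (hg : orderOf g = m) : False := by
  have hg' : orderOf (g : Perm (Fin 5)) = m := by rw [Subgroup.orderOf_coe, hg]
  have hs : Perm.sign (g : Perm (Fin 5)) = 1 := Perm.mem_alternatingGroup.mp g.2
  rcases N5_orders _ hs with h | h | h
  · have := orderOf_dvd_of_pow_eq_one h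
    rw [hg'] at this
    rcases hm with rfl | rfl | rfl <;> omega
  · have := orderOf_dvd_of_pow_eq_one h
    rw [hg'] at this
    rcases hm with rfl | rfl | rfl <;> omega
  · have := orderOf_dvd_of_pow_eq_one h
    rw [hg'] at this
    rcases hm with rfl | rfl | rfl <;> omega

/-- two distinct primes cannot both divide the order of an abelian subgroup of `A₅`. -/
theorem N5_not_two_primes (A : Subgroup (alternatingGroup (Fin 5))) (hA : IsMulCommutative A)
    (p q : ℕ) [Fact p.Prime] [Fact q.Prime] (hpq : p.Coprime q)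
    (hm : p * q = 6 ∨ p * q = 10 ∨ p * q = 15)
    (hp : p ∣ Nat.card A) (hq : q ∣ Nat.card A) : False := by
  obtain ⟨a, ha⟩ := exists_prime_orderOf_dvd_card' (G := ↥A) p hp
  obtain ⟨b, hb⟩ := exists_prime_orderOf_dvd_card' (G := ↥A) q hq
  have hcomm : Commute a b := by
    have := hA.is_comm.comm a b
    exact this
  have hord : orderOf (a * b) = p * q := by
    rw [hcomm.orderOf_mul_eq_mul_orderOf_of_coprime (by rw [ha, hb]; exact hpq), ha, hb]
  have hord' : orderOf ((a * b : ↥A) : alternatingGroup (Fin 5)) = p * q := by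
    rw [Subgroup.orderOf_coe, hord]
  exact N5_no_mixed _ _ hm hord'

theorem N5_card_le (A : Subgroup (alternatingGroup (Fin 5))) (hA : IsMulCommutative A) :
    Nat.card A ≤ 5 := by
  have hdvd : Nat.card A ∣ 60 := N5_card_alt ▸ Subgroup.card_subgroup_dvd_card A
  have hle : Nat.card A ≤ 60 := Nat.le_of_dvd (by norm_num) hdvd
  by_contra hcon
  push Not at hcon
  have h2 : Fact (Nat.Prime 2) := ⟨Nat.prime_two⟩
  have h3 : Fact (Nat.Prime 3) := ⟨Nat.prime_three⟩
  have h5 : Fact (Nat.Prime 5) := ⟨Nat.prime_five⟩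
  have key : (2 ∣ Nat.card A ∧ 3 ∣ Nat.card A) ∨ (2 ∣ Nat.card A ∧ 5 ∣ Nat.card A) ∨
      (3 ∣ Nat.card A ∧ 5 ∣ Nat.card A) := by
    generalize Nat.card A = m at *
    interval_cases m <;> omega
  rcases key with ⟨ha, hb⟩ | ⟨ha, hb⟩ | ⟨ha, hb⟩
  · exact N5_not_two_primes A hA 2 3 (by decide) (by decide) ha hb
  · exact N5_not_two_primes A hA 2 5 (by decide) (by decide) ha hb
  · exact N5_not_two_primes A hA 3 5 (by decide) (by decide) ha hb

theorem N5_exists_five : ∃ C : Subgroup (alternatingGroup (Fin 5)),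
    IsMulCommutative C ∧ Nat.card C = 5 := by
  have hs : Perm.sign (finRotate 5) = 1 := by
    rw [sign_finRotate]; decide
  let x : alternatingGroup (Fin 5) := ⟨finRotate 5, Perm.mem_alternatingGroup.mpr hs⟩
  refine ⟨Subgroup.zpowers x, inferInstance, ?_⟩
  rw [Nat.card_zpowers]
  have h5 : Fact (Nat.Prime 5) := ⟨Nat.prime_five⟩
  apply orderOf_eq_prime
  · apply Subtype.ext
    change (finRotate 5) ^ 5 = 1
    decide
  · intro h
    have : (finRotate 5 : Perm (Fin 5)) = 1 := congrArg Subtype.val h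
    revert this
    decide

theorem N5_eq_sylow (A : Subgroup (alternatingGroup (Fin 5))) (hA5 : Nat.card A = 5) :
    ∃ P : Sylow 5 (alternatingGroup (Fin 5)), (P : Subgroup (alternatingGroup (Fin 5))) = A := by
  have h5 : Fact (Nat.Prime 5) := ⟨Nat.prime_five⟩
  have hAp : IsPGroup 5 A := IsPGroup.of_card (n := 1) (by rw [hA5]; norm_num)
  obtain ⟨P, hAP⟩ := hAp.exists_le_sylow
  refine ⟨P, ?_⟩
  obtain ⟨k, hk⟩ := IsPGroup.iff_card.mp P.isPGroup'
  have hdvd : Nat.card (P : Subgroup (alternatingGroup (Fin 5))) ∣ 60 :=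
    N5_card_alt ▸ Subgroup.card_subgroup_dvd_card _
  have hk1 : k ≤ 1 := by
    by_contra hcon
    push Not at hcon
    have h25 : 5 ^ 2 ∣ 5 ^ k := pow_dvd_pow 5 hcon
    rw [← hk] at h25
    have := h25.trans hdvd
    omega
  have hle : Nat.card (P : Subgroup (alternatingGroup (Fin 5))) ≤ Nat.card A := by
    rw [hk, hA5]
    calc 5 ^ k ≤ 5 ^ 1 := Nat.pow_le_pow_right (by norm_num) hk1
      _ = 5 := by norm_num
  exact (Subgroup.eq_of_le_of_card_ge hAP hle).symm

/-- N5: degree 5, by Sylow. -/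
theorem result_five (A B : Subgroup (alternatingGroup (Fin 5)))
    (hA : IsMulCommutative A) (hB : IsMulCommutative B)
    (hAmax : ∀ C : Subgroup (alternatingGroup (Fin 5)), IsMulCommutative C →
      Nat.card C ≤ Nat.card A)
    (hBmax : ∀ C : Subgroup (alternatingGroup (Fin 5)), IsMulCommutative C →
      Nat.card C ≤ Nat.card B) :
    ∃ g : alternatingGroup (Fin 5), B = MulAut.conj g • A := by
  obtain ⟨C, hC, hC5⟩ := N5_exists_five
  have hA5 : Nat.card A = 5 := by
    have h1 := N5_card_le A hA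
    have h2 := hAmax C hC
    omega
  have hB5 : Nat.card B = 5 := by
    have h1 := N5_card_le B hB
    have h2 := hBmax C hC
    omega
  have h5 : Fact (Nat.Prime 5) := ⟨Nat.prime_five⟩
  obtain ⟨P, hP⟩ := N5_eq_sylow A hA5
  obtain ⟨Q, hQ⟩ := N5_eq_sylow B hB5
  obtain ⟨g, hg⟩ := MulAction.exists_smul_eq (alternatingGroup (Fin 5)) P Q
  refine ⟨g, ?_⟩
  rw [← hP, ← hQ, ← hg]
  rfl

end Cfsg.Agent.S2506L
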