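import Cfsg.Agent.Lib.S2506.Basic
import Cfsg.Agent.Lib.S2506.N
import Cfsg.Agent.Lib.S2506.Ex
import Cfsg.Agent.Lib.S2506.Bd
import Cfsg.Agent.Lib.S2506.Split
import Cfsg.Agent.Lib.S2506.N5
import Cfsg.Agent.Lib.S2506.Conj

set_option autoImplicit false
set_option linter.unusedSectionVars false
open Equiv Equiv.Perm
open scoped Pointwise

namespace Cfsg.Agent.S2506L


theorem Final_adm (n : ℕ) (C : Subgroup (alternatingGroup (Fin n))) (hC : IsMulCommutative C) :
    Adm (C.map (alternatingGroup (Fin n)).subtype) Finset.univ := by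
  refine ⟨?_, ?_, ?_⟩
  · intro a ha b hb
    obtain ⟨a0, ha0, rfl⟩ := Subgroup.mem_map.1 ha
    obtain ⟨b0, hb0, rfl⟩ := Subgroup.mem_map.1 hb
    have := hC.is_comm.comm (⟨a0, ha0⟩ : C) ⟨b0, hb0⟩
    have h2 := congrArg (fun c : C => ((c : alternatingGroup (Fin n)) : Perm (Fin n))) this
    simpa using h2
  · intro g hg
    obtain ⟨a0, -, rfl⟩ := Subgroup.mem_map.1 hg
    exact a0.2
  · intro g _ x _
    exact Finset.mem_univ x

theorem Final_card (n : ℕ) (C : Subgroup (alternatingGroup (Fin n))) :
    Nat.card (C.map (alternatingGroup (Fin n)).subtype) = Nat.card C :=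
  (Nat.card_congr (Subgroup.equivMapOfInjective C _
    (Subgroup.subtype_injective _)).toEquiv).symm

theorem Final_lower (n : ℕ) (h5 : n ≠ 5) (A : Subgroup (alternatingGroup (Fin n)))
    (hAmax : ∀ C : Subgroup (alternatingGroup (Fin n)), IsMulCommutative C →
      Nat.card C ≤ Nat.card A) : fA n ≤ Nat.card A := by
  obtain ⟨C', hC', hcard⟩ := exists_adm_card n h5
  have hle : C' ≤ alternatingGroup (Fin n) := hC'.even
  have hcomm : IsMulCommutative (C'.subgroupOf (alternatingGroup (Fin n))) := by
    refine ⟨⟨fun a b => ?_⟩⟩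
    apply Subtype.ext
    apply Subtype.ext
    exact hC'.comm _ (Subgroup.mem_subgroupOf.1 a.2) _ (Subgroup.mem_subgroupOf.1 b.2)
  have := hAmax _ hcomm
  rw [Nat.card_congr (Subgroup.subgroupOfEquivOfLe hle).toEquiv, hcard] at this
  exact this

theorem Final_card_eq (n : ℕ) (h5 : n ≠ 5) (A : Subgroup (alternatingGroup (Fin n)))
    (hA : IsMulCommutative A)
    (hAmax : ∀ C : Subgroup (alternatingGroup (Fin n)), IsMulCommutative C →
      Nat.card C ≤ Nat.card A) :
    Nat.card (A.map (alternatingGroup (Fin n)).subtype) = fA n := by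
  have h1 := card_le_fA _ _ (Final_adm n A hA)
  rw [Finset.card_univ, Fintype.card_fin, Final_card] at h1
  rw [Final_card]
  exact le_antisymm h1 (Final_lower n h5 A hAmax)

theorem final (n : ℕ)
    (A B : Subgroup (alternatingGroup (Fin n))) (hA : IsMulCommutative A) (hB : IsMulCommutative B)
    (hAmax : ∀ C : Subgroup (alternatingGroup (Fin n)), IsMulCommutative C →
      Nat.card C ≤ Nat.card A)
    (hBmax : ∀ C : Subgroup (alternatingGroup (Fin n)), IsMulCommutative C →
      Nat.card C ≤ Nat.card B) :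
    ∃ g : alternatingGroup (Fin n), B = MulAut.conj g • A := by
  by_cases h5 : n = 5
  · subst h5
    exact result_five A B hA hB hAmax hBmax
  have hcA := Final_card_eq n h5 A hA hAmax
  have hcB := Final_card_eq n h5 B hB hBmax
  by_cases hn : n ≤ 2
  · have h1 : fA n = 1 := by interval_cases n <;> rfl
    rw [h1, Final_card] at hcA hcB
    have hAb : A = ⊥ := Subgroup.card_eq_one.1 hcA
    have hBb : B = ⊥ := Subgroup.card_eq_one.1 hcB
    refine ⟨1, ?_⟩
    rw [hAb, hBb]
    simp
  have hn3 : 3 ≤ n := by omega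
  set ι := (alternatingGroup (Fin n)).subtype with hι
  have hadmA := Final_adm n A hA
  have hadmB := Final_adm n B hB
  have hcu : (Finset.univ : Finset (Fin n)).card = n := by
    rw [Finset.card_univ, Fintype.card_fin]
  obtain ⟨σ, -, hσ⟩ := conj_ind n Finset.univ Finset.univ (A.map ι) (B.map ι) hcu hcu h5
    hadmA hadmB hcA hcB
  -- parity fix
  have hpar : ∃ σ' : Perm (Fin n), sign σ' = 1 ∧
      ∀ g : Perm (Fin n), g ∈ A.map ι ↔ σ' * g * σ'⁻¹ ∈ B.map ι := by
    rcases Int.units_eq_one_or (sign σ) with hs | hs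
    · exact ⟨σ, hs, hσ⟩
    · obtain ⟨hO, hS⟩ := splits_at (A.map ι) Finset.univ hadmA (by rw [hcu]; exact hcA)
        (by rw [hcu]; exact hn3) (by rw [hcu]; exact h5) (⟨0, by omega⟩ : Fin n)
        (Finset.mem_univ _)
      have h1 : 1 < (orb (A.map ι) (⟨0, by omega⟩ : Fin n)).card := by
        rcases hO with h | h <;> omega
      obtain ⟨y, hy, z, hz, hyz⟩ := Finset.one_lt_card.1 h1
      have hsw := swap_conj_mem (A.map ι) Finset.univ _ _ hS y z hy hz
      refine ⟨σ * swap y z, ?_, ?_⟩
      · rw [Perm.sign_mul, hs, sign_swap hyz]; rfl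
      · intro g
        have e1 : σ * swap y z * g * (σ * swap y z)⁻¹ = σ * (swap y z * g * swap y z) * σ⁻¹ := by
          rw [mul_inv_rev, swap_inv]; group
        rw [e1, ← hσ]
        constructor
        · exact hsw g
        · intro h
          have := hsw _ h
          have e2 : swap y z * (swap y z * g * swap y z) * swap y z = g := by
            have h3 : swap y z * swap y z = 1 := swap_mul_self y z
            calc swap y z * (swap y z * g * swap y z) * swap y z
                = (swap y z * swap y z) * g * (swap y z * swap y z) := by group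
              _ = g := by rw [h3]; simp
          rw [e2] at this; exact this
  obtain ⟨σ', hs', hσ'⟩ := hpar
  refine ⟨⟨σ', mem_alternatingGroup.2 hs'⟩, ?_⟩
  ext b
  rw [Subgroup.mem_pointwise_smul_iff_inv_smul_mem]
  have hinj : Function.Injective ι := Subgroup.subtype_injective _
  rw [← Subgroup.mem_map_iff_mem hinj (K := B), ← Subgroup.mem_map_iff_mem hinj (K := A)]
  rw [hσ']
  have e3 : σ' * ι ((MulAut.conj (⟨σ', mem_alternatingGroup.2 hs'⟩ : alternatingGroup (Fin n)))⁻¹ • b) * σ'⁻¹
      = ι b := by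
    rw [MulAut.smul_def, MulAut.conj_inv_apply]
    simp only [hι, map_mul, map_inv, Subgroup.coe_subtype]
    group
  rw [e3]

end Cfsg.Agent.S2506L
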